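import Groth.Prelude.Def_DRing2
import Groth.Agent.CAlgH.TorBridge

/-!
# Dimension shifting for tor dimension

For a short exact sequence `0 → K → F → M → 0` with `F` flat, `HasTorDimLE (n + 1) M` gives `HasTorDimLE n K`;
tor dimension `0` is flatness. Over a flat module the kernel of a surjection is pure.
-/

noncomputable section

universe u

open CategoryTheory MonoidalCategory Groth.Agent.FlatCrit

namespace Groth.Agent.TorShift

variable {R : Type u} [CommRing R]

/-- Vanishing of `Tor` read on a projective resolution. -/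
theorem subsingleton_tor_iff (M N : Type u) [AddCommGroup M] [Module R M] [AddCommGroup N] [Module R N]
    (P : ProjectiveResolution (ModuleCat.of R N)) (p : ℕ) :
    Subsingleton (DRing.Tor R (p + 1) M N) ↔
      Function.Exact ((P.complex.d (p + 2) (p + 1)).hom.lTensor M) ((P.complex.d (p + 1) p).hom.lTensor M) := by
  let F := MonoidalCategory.tensorLeft (ModuleCat.of R M)
  have e : ((CategoryTheory.Tor (ModuleCat.{u} R) (p + 1)).obj (ModuleCat.of R M)).obj (ModuleCat.of R N) ≅ _ :=
    P.isoLeftDerivedObj F (p + 1)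
  rw [← ModuleCat.isZero_iff_subsingleton, e.isZero_iff]
  change Limits.IsZero (((F.mapHomologicalComplex _).obj P.complex).homology (p + 1)) ↔ _
  rw [← HomologicalComplex.exactAt_iff_isZero_homology,
    HomologicalComplex.exactAt_iff' _ (p + 2) (p + 1) p (by simp) (by simp),
    ShortComplex.ShortExact.moduleCat_exact_iff_function_exact]
  rfl

variable {K F M : Type u} [AddCommGroup K] [Module R K] [AddCommGroup F] [Module R F] [AddCommGroup M] [Module R M]

/-- Dimension shifting. -/
theorem hasTorDimLE_of_exact [Module.Flat R F] {i : K →ₗ[R] F} {π : F →ₗ[R] M} (hi : Function.Injective i)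
    (he : Function.Exact i π) (hπ : Function.Surjective π) {n : ℕ} (h : DRing.HasTorDimLE R (n + 1) M) :
    DRing.HasTorDimLE R n K := by
  intro N _ _ p hp
  obtain ⟨q, rfl⟩ : ∃ q, p = q + 1 := ⟨p - 1, by omega⟩
  let P : ProjectiveResolution (ModuleCat.of R N) := CategoryTheory.projectiveResolution (ModuleCat.of R N)
  haveI hflat : ∀ j, Module.Flat R (P.complex.X j) := fun j =>
    haveI : Module.Projective R (P.complex.X j) := (IsProjective.iff_projective _).2 (P.projective j)
    inferInstance
  have hex : ∀ j, Function.Exact (P.complex.d (j + 2) (j + 1)).hom (P.complex.d (j + 1) j).hom := fun j =>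
    (ShortComplex.ShortExact.moduleCat_exact_iff_function_exact _).1
      ((HomologicalComplex.exactAt_iff' _ (j + 2) (j + 1) j (by simp) (by simp)).1 (P.complex_exactAt_succ j))
  have hMex : Function.Exact ((P.complex.d (q + 3) (q + 2)).hom.lTensor M) ((P.complex.d (q + 2) (q + 1)).hom.lTensor M) :=
    (subsingleton_tor_iff M N P (q + 1)).1 (h N (q + 2) (by omega))
  have hFex : Function.Exact ((P.complex.d (q + 2) (q + 1)).hom.lTensor F) ((P.complex.d (q + 1) q).hom.lTensor F) :=
    Module.Flat.lTensor_exact F (hex q)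
  have hinj : ∀ j, Function.Injective (i.rTensor (P.complex.X j)) := fun j =>
    Module.Flat.rTensor_preserves_injective_linearMap i hi
  rw [subsingleton_tor_iff K N P q]
  have hcomm : ∀ {X Y : Type u} [AddCommGroup X] [Module R X] [AddCommGroup Y] [Module R Y] (g : X →ₗ[R] Y) (j l : ℕ)
      (z : TensorProduct R X (P.complex.X j)), g.rTensor _ ((P.complex.d j l).hom.lTensor X z) =
        (P.complex.d j l).hom.lTensor Y (g.rTensor _ z) := fun g j l z => by
    rw [← LinearMap.comp_apply, ← LinearMap.comp_apply, LinearMap.rTensor_comp_lTensor, LinearMap.lTensor_comp_rTensor]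
  have hd0 : ∀ (X : Type u) [AddCommGroup X] [Module R X] (j : ℕ) (y : TensorProduct R X (P.complex.X (j + 2))),
      (P.complex.d (j + 1) j).hom.lTensor X ((P.complex.d (j + 2) (j + 1)).hom.lTensor X y) = 0 := fun X _ _ j y => by
    rw [← LinearMap.comp_apply, ← LinearMap.lTensor_comp, (hex j).linearMap_comp_eq_zero, LinearMap.lTensor_zero]
    rfl
  intro z
  refine ⟨fun hz => ?_, fun ⟨y, hy⟩ => hy ▸ hd0 K q y⟩
  obtain ⟨w, hw⟩ := (hFex (i.rTensor _ z)).1 (by rw [← hcomm, hz, map_zero])
  have hwM : (P.complex.d (q + 2) (q + 1)).hom.lTensor M (π.rTensor _ w) = 0 := by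
    rw [← hcomm, hw, ← LinearMap.comp_apply, ← LinearMap.rTensor_comp, he.linearMap_comp_eq_zero, LinearMap.rTensor_zero]
    rfl
  obtain ⟨v, hv⟩ := (hMex _).1 hwM
  obtain ⟨v', rfl⟩ := LinearMap.rTensor_surjective _ hπ v
  obtain ⟨y, hy⟩ := ((rTensor_exact _ he hπ) (w - (P.complex.d (q + 3) (q + 2)).hom.lTensor F v')).1
    (by rw [map_sub, hcomm, hv, sub_self])
  refine ⟨y, hinj (q + 1) ?_⟩
  rw [hcomm, hy, map_sub, hw, hd0 F (q + 1), sub_zero]

/-- Tor dimension `0` is flatness. -/
theorem flat_of_hasTorDimLE_zero (h : DRing.HasTorDimLE R 0 M) : Module.Flat R M :=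
  flat_of_torZero fun I => (Groth.Agent.CAlgH.TorBridge.isZero_tor_one_iff (ModuleCat.of R M) (ModuleCat.of R (R ⧸ I))).1
    (ModuleCat.isZero_iff_subsingleton.2 (h (R ⧸ I) 1 Nat.zero_lt_one))

theorem hasTorDimLE_mono {m n : ℕ} (hmn : m ≤ n) (h : DRing.HasTorDimLE R m M) : DRing.HasTorDimLE R n M :=
  fun N _ _ p hp => h N p (hmn.trans_lt hp)

/-- With flat cokernel, elements of the range with coefficients in `I` are images of such elements. -/
theorem exists_mem_smul_top_of_flat (d : K →ₗ[R] F) [Module.Flat R (F ⧸ LinearMap.range d)] {I : Ideal R} {x : K}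
    (hx : d x ∈ I • (⊤ : Submodule R F)) : ∃ y ∈ I • (⊤ : Submodule R K), d y = d x := by
  classical
  have hx' : ∃ (l : ℕ) (a : Fin l → R) (v : Fin l → F), (∀ i, a i ∈ I) ∧ ∑ i, a i • v i = d x := by
    refine Submodule.smul_induction_on hx (fun r hr m _ => ⟨1, fun _ => r, fun _ => m, fun _ => hr, by simp⟩) ?_
    rintro a b ⟨l, r, v, hr, rfl⟩ ⟨l', r', v', hr', rfl⟩
    exact ⟨l + l', Fin.append r r', Fin.append v v', Fin.addCases (fun i => by simp [hr i]) (fun i => by simp [hr' i]),
      by simp [Fin.sum_univ_add]⟩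
  obtain ⟨l, a, v, ha, hv⟩ := hx'
  have hrel : ∑ i, a i • (Submodule.Quotient.mk (v i) : F ⧸ LinearMap.range d) = 0 := by
    simp only [← Submodule.mkQ_apply, ← map_smul]
    rw [← map_sum, hv, Submodule.mkQ_apply, Submodule.Quotient.mk_eq_zero]
    exact LinearMap.mem_range_self d x
  obtain ⟨c, b, y, hy, hb⟩ := Module.Flat.isTrivialRelation_of_sum_smul_eq_zero hrel
  choose Y hY using fun j => Submodule.Quotient.mk_surjective _ (y j)
  have hz : ∀ i, ∃ z, d z = v i - ∑ j, b i j • Y j := fun i => by
    refine LinearMap.mem_range.1 ((Submodule.Quotient.mk_eq_zero _).1 ?_)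
    rw [Submodule.Quotient.mk_sub, sub_eq_zero]
    refine (hy i).trans ?_
    rw [← Submodule.mkQ_apply, map_sum]
    exact Finset.sum_congr rfl fun j _ => by rw [map_smul, Submodule.mkQ_apply, hY]
  choose z hz using hz
  refine ⟨∑ i, a i • z i, Submodule.sum_mem _ fun i _ => Submodule.smul_mem_smul (ha i) trivial, ?_⟩
  simp_rw [map_sum, map_smul, hz, smul_sub, Finset.sum_sub_distrib, hv, Finset.smul_sum, smul_smul]
  rw [Finset.sum_comm, Finset.sum_eq_zero fun j _ => ?_, sub_zero]
  rw [← Finset.sum_smul, hb j, zero_smul]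

end Groth.Agent.TorShift

end
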